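import Cfsg.Agent.H983.ElG.KOut
import Cfsg.Agent.H278.Cov.Defs

/-!
# S2499 (normal 2-coverings), the row `G₂(q)`, `q` odd: interface (helper983)

* `RU` : the package of facts on the regular unipotent element `u` of `G₂(q)` used in the proof;
* `ExRU`, `CharThree`, `CharSix`, `GTwoThree` : the statements of the tasks.
-/

set_option autoImplicit false

namespace Cfsg.Agent.H983.Cov

open Cfsg Cfsg.Lie Cfsg.Agent.OrdDiv Cfsg.Agent.H436 Cfsg.Agent.H915.GN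

/-- The package of facts on the regular unipotent element `u`: `B = N(U)` is the Borel subgroup, `U` the Sylow
`p`-subgroup containing `u`. -/
structure RU {T : Type} [Group T] (q p : ℕ) (u : T) (B U : Subgroup T) : Prop where
  mem : u ∈ U
  le : U ≤ B
  isP : IsPGroup p U
  cardU : Nat.card U = q ^ 6
  cardB : Nat.card B = q ^ 6 * (q - 1) ^ 2
  norm : ∀ b ∈ B, ∀ x ∈ U, b * x * b⁻¹ ∈ U
  comm : ∀ x ∈ B, ∀ y ∈ B, x * y * x⁻¹ * y⁻¹ ∈ U
  expo : ∀ b ∈ B, b ^ (q - 1) ∈ U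
  /-- `U` is the only conjugate of `U` containing `u` -/
  reg : ∀ g : T, g * u * g⁻¹ ∈ U → g ∈ B
  /-- the centraliser of `u` is a `p`-group -/
  cent : IsPGroup p ↥(Subgroup.centralizer ({u} : Set T))
  /-- a subgroup of `U` containing `u` and normalised by a large `p'`-subgroup of `B` is `U` -/
  frat : 7 ≤ p → ∀ P : Subgroup T, P ≤ U → u ∈ P → ∀ H : Subgroup T, H ≤ B → (Nat.card H).Coprime p →
    (∀ h ∈ H, ∀ x ∈ P, h * x * h⁻¹ ∈ P) → (q - 1) ^ 2 ≤ 3 * Nat.card H → P = U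
  ord : p ≤ 5 → u ^ p ≠ 1

/-- TASK RU -/
def ExRU : Prop := ∀ {p f : ℕ}, p.Prime → p ≠ 2 → 1 ≤ f → ∀ {F : Type} [Field F] [Fintype F],
  Fintype.card F = p ^ f → ∃ (u : ↥(chevG2.group F)) (B U : Subgroup ↥(chevG2.group F)), RU (p ^ f) p u B U

/-- TASK CHARP, class 3 -/
def CharThree : Prop := ∀ {p f c : ℕ} {g : Grp}, p.Prime → p ≠ 2 → 1 ≤ f → Cond g → HasChar p g →
  den g * c = num g → c ∣ num (.g2 (p ^ f)) → (∀ s, Prim (p ^ f) 3 s → s ∣ c) →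
  g = .g2 (p ^ f) ∨ g = .psl 2 (p ^ (3 * f)) ∨ g = .psl 3 (p ^ f) ∨
    ∃ a, f = 2 * a ∧ (g = .g2 (p ^ a) ∨ g = .psl 2 (p ^ (3 * a)))

/-- TASK CHARP, class 6 -/
def CharSix : Prop := ∀ {p f c : ℕ} {g : Grp}, p.Prime → p ≠ 2 → 1 ≤ f → Cond g → HasChar p g →
  den g * c = num g → c ∣ num (.g2 (p ^ f)) → (∀ s, Prim (p ^ f) 6 s → s ∣ c) →
  g = .g2 (p ^ f) ∨ g = .psl 2 (p ^ (3 * f)) ∨ g = .psu 3 (p ^ f) ∨ g = .ree (p ^ f)

/-- TASK Q3 -/
def GTwoThree : Prop := ∀ {F : Type} [Field F] [Fintype F], Fintype.card F = 3 →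
  H278.Cov.NoTwo ↥(chevG2.group F)

end Cfsg.Agent.H983.Cov
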