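import Cfsg.Agent.H983.Cov.Struct

/-!
# S2499, the row `G₂(q)`, `q` odd: the two classes of `G₂(q)` (helper983)
-/

set_option autoImplicit false

namespace Cfsg.Agent.H983.Cov

open Cfsg Cfsg.Lie Cfsg.Agent.OrdDiv Cfsg.Agent.H436 Cfsg.Agent.H902 Cfsg.Agent.H902.Names Cfsg.Agent.H915.GN
  Cfsg.Agent.H290.ElReg Cfsg.Agent.H264.FKS Cfsg.Agent.H563.KG Cfsg.Agent.H56.Exc
open Cfsg.Agent.H946.Num Cfsg.Agent.H946.Rad Cfsg.Agent.H983.KG2
open Subgroup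

variable {p f : ℕ}

theorem N3_dvd (q : ℕ) : N3 q ∣ 3 * c3 q := by
  have h1 := c3_mul q
  rcases gcd3 (n := N3 q) with h | ⟨h, -⟩ <;> rw [h] at h1
  · rw [← h1, one_mul]; exact Dvd.intro_left _ rfl
  · rw [h1]

theorem N6_dvd (q : ℕ) : N6 q ∣ 3 * c6 q := by
  have h1 := c6_mul q
  rcases gcd3 (n := N6 q) with h | ⟨h, -⟩ <;> rw [h] at h1
  · rw [← h1, one_mul]; exact Dvd.intro_left _ rfl
  · rw [h1]

theorem odd_of {p f : ℕ} (hp : p.Prime) (h2 : p ≠ 2) : (p ^ f) % 2 = 1 :=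
  Nat.odd_iff.1 ((hp.odd_of_ne_two h2).pow)

theorem coprime_N3 {q : ℕ} : Nat.Coprime q (N3 q) := by
  unfold N3
  have h : q ^ 2 + q + 1 = 1 + (q + 1) * q := by ring
  rw [h, Nat.coprime_add_mul_right_right]
  exact Nat.coprime_one_right q

theorem coprime_N6 {q : ℕ} : Nat.Coprime q (N6 q) := by
  rw [Nat.coprime_iff_gcd_eq_one]
  have h1 : (Nat.gcd q (N6 q)) ∣ 1 := by
    have h2 : ((Nat.gcd q (N6 q) : ℕ) : ℤ) ∣ (q : ℤ) := Int.natCast_dvd_natCast.2 (Nat.gcd_dvd_left _ _)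
    have h3 : ((Nat.gcd q (N6 q) : ℕ) : ℤ) ∣ (N6 q : ℤ) := Int.natCast_dvd_natCast.2 (Nat.gcd_dvd_right _ _)
    have h4 := cast_N6 q
    have h5 : ((Nat.gcd q (N6 q) : ℕ) : ℤ) ∣ 1 := by
      have h6 : (1 : ℤ) = (N6 q : ℤ) - ((q : ℤ) - 1) * q := by rw [h4]; ring
      rw [h6]
      exact dvd_sub h3 (h2.mul_left _)
    exact_mod_cast h5
  exact Nat.dvd_one.1 h1

theorem Dat.cls3 {T : Type} [Group T] [Finite T] (D : Dat T p f) (hT : IsNamed (.g2 (p ^ f)) T) (h2 : p ≠ 2) :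
    ClsD T p (N3 (p ^ f)) (c3 (p ^ f)) := by
  have hq : 1 ≤ p ^ f := Nat.one_le_pow _ _ D.hp.pos
  refine ⟨D.hp, h2, fun r hr h => D.b3 r (prim_c3 hq hr h), fun r hr h => D.iso r (prim_c3 hq hr h), c3_dvd _, N3_dvd _,
    not_three_c3 _, fun r hr h => ?_, ?_, fun h => ?_, D.fth⟩
  · refine seven_le hr ?_ (Or.inl (h.trans (c3_dvd _)))
    rintro rfl
    exact not_three_c3 _ h
  · have h1 := le_c3 (p ^ f)
    have h3 : 3 ^ 2 ≤ (p ^ f) ^ 2 := Nat.pow_le_pow_left D.h3q 2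
    omega
  · have h1 : p ∣ p ^ f := dvd_pow_self p (by have := D.hf; omega)
    have h3 := Nat.dvd_gcd h1 h
    rw [coprime_N3] at h3
    exact D.hp.one_lt.ne' (Nat.dvd_one.1 h3)

theorem Dat.cls6 {T : Type} [Group T] [Finite T] (D : Dat T p f) (hT : IsNamed (.g2 (p ^ f)) T) (h2 : p ≠ 2) :
    ClsD T p (N6 (p ^ f)) (c6 (p ^ f)) := by
  have hq : 1 ≤ p ^ f := Nat.one_le_pow _ _ D.hp.pos
  refine ⟨D.hp, h2, fun r hr h => D.b6 r (prim_c6 hq hr h), fun r hr h =>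
    Cfsg.Agent.H325.Same.piso_g2_named hT D.hp (Or.inr rfl) (prim_c6 hq hr h), c6_dvd _, N6_dvd _,
    not_three_c6 _, fun r hr h => ?_, ?_, fun h => ?_, D.fth⟩
  · have := prim_lt hq (by norm_num) (prim_c6 hq hr h)
    omega
  · have h1 := le_c6 (q := p ^ f)
    have h3 : 3 * (p ^ f) ≤ (p ^ f) ^ 2 := by rw [pow_two]; exact Nat.mul_le_mul_right _ D.h3q
    have h4 := D.h3q
    omega
  · have h1 : p ∣ p ^ f := dvd_pow_self p (by have := D.hf; omega)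
    have h3 := Nat.dvd_gcd h1 h
    rw [coprime_N6] at h3
    exact D.hp.one_lt.ne' (Nat.dvd_one.1 h3)

section

variable {F : Type} [Field F] [Fintype F]

theorem exists_of_cycCard {G : Type} [Group G] [Finite G] {r m : ℕ} (h : Cfsg.Agent.H129.CycCard.CycCard G r m 1) :
    ∃ y : G, orderOf y = m := by
  obtain ⟨A, h1, h2, h3, -, -⟩ := h
  rw [one_mul] at h3
  obtain ⟨g, hg⟩ := h1.exists_generator
  refine ⟨g, ?_⟩
  rw [Subgroup.orderOf_coe, orderOf_eq_card_of_forall_mem_zpowers hg]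
  exact Nat.dvd_antisymm h2 h3

theorem exists_y3 (hF : Fintype.card F = p ^ f) (hp : p.Prime) (hf : 1 ≤ f) (h3q : 3 ≤ p ^ f) :
    ∃ y : ↥(chevG2.group F), orderOf y = N3 (p ^ f) := by
  obtain ⟨r, hr, -⟩ := exists_cl hp hf h3q (Or.inl rfl : (3 : ℕ) = 3 ∨ (3 : ℕ) = 6)
  have hlt := prim_lt (by omega) (by norm_num) hr
  exact exists_of_cycCard (Cfsg.Agent.H129.CycCard.card_G2_3 hF (by unfold N3; push_cast; ring) hr.prime
    (prim_dvd_3 hr) (by omega))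

theorem exists_y6 (hF : Fintype.card F = p ^ f) (hp : p.Prime) (hf : 1 ≤ f) (h3q : 3 ≤ p ^ f) :
    ∃ y : ↥(chevG2.group F), orderOf y = N6 (p ^ f) := by
  obtain ⟨r, hr, -⟩ := exists_cl hp hf h3q (Or.inr rfl : (6 : ℕ) = 3 ∨ (6 : ℕ) = 6)
  have hlt := prim_lt (by omega) (by norm_num) hr
  exact exists_of_cycCard (Cfsg.Agent.H129.CycCard.card_G2_6 hF (by rw [cast_N6]; push_cast; ring) hr.prime
    (prim_dvd_6 hr) (by omega))

end

end Cfsg.Agent.H983.Cov
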