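import Cfsg.Agent.H983.ElG.KNum

/-!
# S2499, the row `G₂(q)`, `q` odd: numerical part (helper983)

* `cross3`, `cross6` : Lie type in cross characteristic with order divisible by `c3 q` (resp. `c6 q`);
* `spor3`, `spor6` : sporadic groups.
-/

set_option autoImplicit false
set_option exponentiation.threshold 700

namespace Cfsg.Agent.H983.Cov

open Cfsg.Agent.H902 Cfsg.Agent.H290.ElReg Cfsg.Agent.H290.ElTab Cfsg.Agent.H290.ElCross Cfsg.Agent.H563.KG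
open Cfsg.Agent.H946.Num Cfsg.Agent.H946.Rad Cfsg.Agent.H983.KG2
open Cfsg.Agent.H436 (Prim exists_prim)

/-- the odd fields with at most 17 elements -/
def oq : List (ℕ × ℕ) := [(3, 3), (5, 5), (7, 7), (3, 9), (11, 11), (13, 13), (17, 17)]

theorem mem_oq {p f : ℕ} (hp : p.Prime) (h2 : p ≠ 2) (hf : 1 ≤ f) (h : p ^ f < 18) : (p, p ^ f) ∈ oq := by
  have hp3 : 3 ≤ p := by have := hp.two_le; omega
  have hpf : p ≤ p ^ f := Nat.le_self_pow (by omega) p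
  have hf3 : f < 3 := by
    by_contra hcon
    have : 3 ^ 3 ≤ p ^ f := (Nat.pow_le_pow_left hp3 3).trans (Nat.pow_le_pow_right (by omega) (by omega))
    omega
  have hp18 : p < 18 := by omega
  interval_cases f
  · simp only [pow_one]
    interval_cases p <;> first | (simp [oq]; done) | (exfalso; revert hp; norm_num)
  · have : p < 5 := by nlinarith
    interval_cases p <;> first | (simp [oq]; done) | (exfalso; revert hp; norm_num)

/-- the survivors -/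
def sv3 : Bool := (reg 14).all fun x => oq.all fun y => y.1 == x.2.1 ||
  (!(OL x.1 (x.2.1 ^ x.2.2) % c3 y.2 == 0 && (Art.dd x.1 (x.2.1 ^ x.2.2) * OL .G2 y.2) % OL x.1 (x.2.1 ^ x.2.2) == 0) ||
    ((y.2 == 3 && x == (.L 2, (13, 1))) || (y.2 == 9 && (x == (.L 2, (13, 1)) || x == (.Sz, (2, 3))))))

def sv6 : Bool := (reg 14).all fun x => oq.all fun y => y.1 == x.2.1 ||
  (!(OL x.1 (x.2.1 ^ x.2.2) % c6 y.2 == 0 && (Art.dd x.1 (x.2.1 ^ x.2.2) * OL .G2 y.2) % OL x.1 (x.2.1 ^ x.2.2) == 0) ||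
    (!(OL x.1 (x.2.1 ^ x.2.2) % y.1 == 0) || ((y.2 == 3 && (x == (.L 2, (2, 3)) || (x == (.L 2, (7, 1)) ||
      (x == (.L 2, (13, 1)) || x == (.L 3, (2, 1)))))) || (y.2 == 5 && x == (.L 4, (2, 1))))))

theorem sv3_true : sv3 = true := by decide +kernel
theorem sv6_true : sv6 = true := by decide +kernel

/-- the order of a simple group of Lie type of small degree in cross characteristic: the bound for the primes
congruent to 1 modulo 3 -/
theorem reg_bound {X : Art.Sh} {l a N c : ℕ} (hR : Art.Real X l a N) (hlb : lb X (l ^ a) ≤ 14)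
    (hcN : c ∣ N) (hc : ∀ r : ℕ, r.Prime → r ∣ c → (r - 1) % 3 = 0) :
    (X, (l, a)) ∈ reg 14 ∧ c ≤ 91 ∧ OL X (l ^ a) = Art.dd X (l ^ a) * N ∧ OL X (l ^ a) ≠ 0 := by
  obtain ⟨hl, ha, hokX, heq⟩ := hR
  have hreg := mem_reg (by norm_num) hl ha hokX hlb
  have hs' : smooth (NA X l a) = true :=
    List.all_eq_true.1 smooth_reg (X, (l, a)) (mem_reg le_rfl hl ha hokX (hlb.trans (by norm_num)))
  have hsS : smooth (NS X l a) = true := by
    have h1 : NS X l a ∣ NA X l a := Dvd.intro_left _ rfl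
    have h2 : NA X l a ∣ prs.prod ^ 100 := Nat.dvd_of_mod_eq_zero (by simpa [smooth] using hs')
    simpa [smooth] using Nat.mod_eq_zero_of_dvd (h1.trans h2)
  have hM : OL X (l ^ a) = Art.dd X (l ^ a) * N := by unfold OL; rw [numL_eq]; exact heq.symm
  have hNM : N ∣ OL X (l ^ a) := Dvd.intro_left _ hM.symm
  have hNS : ∀ r, r.Prime → r ∣ OL X (l ^ a) → r ∣ NS X l a := by
    intro r hr h
    unfold NS
    have h1 : r ∣ (l ^ a) ^ Art.NN X * numL X (l ^ a) := h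
    rcases hr.dvd_mul.1 h1 with h2 | h2
    · exact (hr.dvd_of_dvd_pow (hr.dvd_of_dvd_pow h2)).mul_right _
    · exact h2.mul_left _
  have hb' := List.all_eq_true.1 bnd14_true (X, (l, a)) hreg
  simp only [Bool.and_eq_true, Nat.ble_eq, Nat.blt_eq, List.all_eq_true] at hb'
  obtain ⟨hb1, hb2, hb3⟩ := hb'
  have hM0 : OL X (l ^ a) ≠ 0 := by
    intro h0
    have h3 : l ^ a ≠ 0 := pow_ne_zero _ hl.ne_zero
    have h4 : NS X l a ≠ 0 := by
      intro h5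
      have h6 : NS X l a ∣ prs.prod ^ 100 := Nat.dvd_of_mod_eq_zero (by simpa [smooth] using hsS)
      rw [h5] at h6
      have h7 := Nat.eq_zero_of_zero_dvd h6
      have h8 : prs.prod ≠ 0 := by decide +kernel
      exact pow_ne_zero 100 h8 h7
    apply h4
    unfold OL at h0
    rcases Nat.mul_eq_zero.1 h0 with h5 | h5
    · exact absurd h5 (pow_ne_zero _ h3)
    · unfold NS
      rw [h5, mul_zero]
  have h1 : c ∣ De (pd (NS X l a)) (OL X (l ^ a)) 3 := by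
    refine dvd_De hM0 hb2 (hcN.trans hNM) fun r hr hrd => ⟨?_, hc r hr hrd⟩
    exact mem_pd hsS hr (hNS r hr (hrd.trans (hcN.trans hNM)))
  exact ⟨hreg, (Nat.le_of_dvd (Nat.pos_of_ne_zero (De_ne_zero hM0)) h1).trans hb1, hM, hM0⟩

theorem mod3_c3 {q : ℕ} (hq : 2 ≤ q) {r : ℕ} (hr : r.Prime) (h : r ∣ c3 q) : (r - 1) % 3 = 0 :=
  mod_of_prim hq (by norm_num) (prim_c3 (by omega) hr h)

theorem mod3_c6 {q : ℕ} (hq : 2 ≤ q) {r : ℕ} (hr : r.Prime) (h : r ∣ c6 q) : (r - 1) % 3 = 0 := by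
  have := mod_of_prim hq (by norm_num) (prim_c6 (by omega) hr h)
  omega

theorem le_c3 (q : ℕ) : q ^ 2 < 3 * c3 q := by
  have h1 := c3_mul q
  have h2 : Nat.gcd 3 (N3 q) ≤ 3 := Nat.le_of_dvd (by norm_num) (Nat.gcd_dvd_left _ _)
  have h3 := Nat.mul_le_mul_right (c3 q) h2
  rw [h1] at h3
  unfold N3 at h3
  omega

theorem le_c6 {q : ℕ} : q ^ 2 < 3 * c6 q + q := by
  have h1 := c6_mul q
  have h2 : Nat.gcd 3 (N6 q) ≤ 3 := Nat.le_of_dvd (by norm_num) (Nat.gcd_dvd_left _ _)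
  have h3 := Nat.mul_le_mul_right (c6 q) h2
  rw [h1] at h3
  have h4 : ((N6 q : ℕ) : ℤ) ≤ ((3 * c6 q : ℕ) : ℤ) := by exact_mod_cast h3
  rw [cast_N6] at h4
  zify
  push_cast at h4
  linarith

variable {p f : ℕ}

/-- **Cross characteristic, class 3.** -/
theorem cross3 {X : Art.Sh} {l a N : ℕ} (hR : Art.Real X l a N) (hlb : lb X (l ^ a) ≤ 14) (hp : p.Prime) (h2 : p ≠ 2)
    (hf : 1 ≤ f) (hpl : p ≠ l) (hc : c3 (p ^ f) ∣ N) (hd : N ∣ OL .G2 (p ^ f)) :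
    (p ^ f = 3 ∧ X = .L 2 ∧ l = 13 ∧ a = 1) ∨
      (p ^ f = 9 ∧ ((X = .L 2 ∧ l = 13 ∧ a = 1) ∨ (X = .Sz ∧ l = 2 ∧ a = 3))) := by
  have hq : 2 ≤ p ^ f := hp.two_le.trans (Nat.le_self_pow (by omega) _)
  obtain ⟨hreg, hb, hM, hM0⟩ := reg_bound hR hlb hc fun r hr h => mod3_c3 hq hr h
  have hq18 : p ^ f < 18 := by
    by_contra hcon
    have h1 := le_c3 (p ^ f)
    have h3 : 18 ^ 2 ≤ (p ^ f) ^ 2 := Nat.pow_le_pow_left (by omega) 2
    omega
  have hmem := mem_oq hp h2 hf hq18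
  have h4 := List.all_eq_true.1 (List.all_eq_true.1 sv3_true (X, (l, a)) hreg) _ hmem
  have h9 : OL X (l ^ a) % c3 (p ^ f) = 0 := Nat.mod_eq_zero_of_dvd (by rw [hM]; exact hc.mul_left _)
  have h10 : (Art.dd X (l ^ a) * OL .G2 (p ^ f)) % OL X (l ^ a) = 0 := by
    apply Nat.mod_eq_zero_of_dvd
    rw [hM]
    exact Nat.mul_dvd_mul_left _ hd
  simp only [h9, h10, beq_self_eq_true, Bool.and_self, Bool.not_true, Bool.false_or, Bool.or_eq_true, beq_iff_eq,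
    Bool.and_eq_true, Prod.mk.injEq, hpl, false_or] at h4
  exact h4

/-- **Cross characteristic, class 6.** -/
theorem cross6 {X : Art.Sh} {l a N : ℕ} (hR : Art.Real X l a N) (hlb : lb X (l ^ a) ≤ 14) (hp : p.Prime) (h2 : p ≠ 2)
    (hf : 1 ≤ f) (hpl : p ≠ l) (hc : c6 (p ^ f) ∣ N) (hd : N ∣ OL .G2 (p ^ f)) (hpN : p ∣ N) :
    (p ^ f = 3 ∧ ((X = .L 2 ∧ l = 2 ∧ a = 3) ∨ (X = .L 2 ∧ l = 7 ∧ a = 1) ∨ (X = .L 2 ∧ l = 13 ∧ a = 1) ∨
      (X = .L 3 ∧ l = 2 ∧ a = 1))) ∨ (p ^ f = 5 ∧ X = .L 4 ∧ l = 2 ∧ a = 1) := by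
  have hq : 2 ≤ p ^ f := hp.two_le.trans (Nat.le_self_pow (by omega) _)
  obtain ⟨hreg, hb, hM, hM0⟩ := reg_bound hR hlb hc fun r hr h => mod3_c6 hq hr h
  have hq18 : p ^ f < 18 := by
    by_contra hcon
    have h1 := le_c6 (q := p ^ f)
    have h3 : 18 * p ^ f ≤ (p ^ f) ^ 2 := by rw [pow_two]; exact Nat.mul_le_mul_right _ (by omega)
    omega
  have hmem := mem_oq hp h2 hf hq18
  have h4 := List.all_eq_true.1 (List.all_eq_true.1 sv6_true (X, (l, a)) hreg) _ hmem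
  have h9 : OL X (l ^ a) % c6 (p ^ f) = 0 := Nat.mod_eq_zero_of_dvd (by rw [hM]; exact hc.mul_left _)
  have h11 : OL X (l ^ a) % p = 0 := Nat.mod_eq_zero_of_dvd (by rw [hM]; exact hpN.mul_left _)
  have h10 : (Art.dd X (l ^ a) * OL .G2 (p ^ f)) % OL X (l ^ a) = 0 := by
    apply Nat.mod_eq_zero_of_dvd
    rw [hM]
    exact Nat.mul_dvd_mul_left _ hd
  simp only [h9, h10, h11, beq_self_eq_true, Bool.and_self, Bool.not_true, Bool.false_or, Bool.or_eq_true, beq_iff_eq,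
    Bool.and_eq_true, Prod.mk.injEq, hpl, false_or] at h4
  exact h4

/-! ### sporadic groups -/

/-- the order of the Monster -/
def mo : ℕ := 808017424794512875886459904961710757005754368000000000

def bndS : Bool := Cfsg.Agent.OrdDiv.spor.all fun x =>
  (x.2 == mo || Nat.ble (De (pd x.2) x.2 3) 537943) && (Nat.blt x.2 (2 ^ 600) && Nat.ble (De (pd x.2) x.2 3) 152241688417)

def svS3 : Bool := Cfsg.Agent.OrdDiv.spor.all fun x => (List.range 1271).all fun q => Nat.blt q 3 || (q % 2 == 0 ||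
  (!(x.2 % c3 q == 0) || (!(OL .G2 q % x.2 == 0) || (q == 11 && x.2 == 175560))))

def svS6 : Bool := Cfsg.Agent.OrdDiv.spor.all fun x => (List.range 1271).all fun q => Nat.blt q 3 || (q % 2 == 0 ||
  (!(x.2 % c6 q == 0) || !(OL .G2 q % x.2 == 0)))

theorem bndS_true : bndS = true := by decide +kernel
theorem svS3_true : svS3 = true := by decide +kernel
theorem svS6_true : svS6 = true := by decide +kernel

/-- the 2-part of the order of `G₂(q)` -/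
theorem two_part {q : ℕ} (hq : 3 ≤ q) (ho : q % 2 = 1) (h : 2 ^ 46 ∣ OL .G2 q) : 2 ^ 22 ≤ q + 1 := by
  have h0 : OL .G2 q = q ^ 6 * ((q ^ 2 - 1) * (q ^ 6 - 1)) := rfl
  rw [h0] at h
  have hodd : Odd q := Nat.odd_iff.2 ho
  have hc1 : Nat.Coprime (2 ^ 46) (q ^ 6) := (Nat.coprime_two_left.2 hodd).pow 46 6
  have h1 := hc1.dvd_of_dvd_mul_left h
  have h2 : q ^ 6 - 1 = (q ^ 2 - 1) * (q ^ 4 + q ^ 2 + 1) := by
    have h3 : 1 ≤ q ^ 2 := Nat.one_le_pow _ _ (by omega)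
    have h4 : 1 ≤ q ^ 6 := Nat.one_le_pow _ _ (by omega)
    zify [h3, h4]
    ring
  rw [h2, ← mul_assoc] at h1
  have hc2 : Nat.Coprime (2 ^ 46) (q ^ 4 + q ^ 2 + 1) := by
    refine Nat.Coprime.pow_left 46 (Nat.coprime_two_left.2 ?_)
    exact ((hodd.pow).add_odd hodd.pow).add_one
  have h3 := hc2.dvd_of_dvd_mul_right h1
  have h4 : (2 ^ 23) ^ 2 ∣ (q ^ 2 - 1) ^ 2 := by rw [pow_two (q ^ 2 - 1)]; exact h3
  have h5 : 2 ^ 23 ∣ q ^ 2 - 1 := (Nat.pow_dvd_pow_iff (by norm_num)).1 h4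
  obtain ⟨k, rfl⟩ := hodd
  have h6 : (2 * k + 1) ^ 2 - 1 = 4 * (k * (k + 1)) := by
    have : (2 * k + 1) ^ 2 = 4 * (k * (k + 1)) + 1 := by ring
    omega
  rw [h6] at h5
  have h7 : 2 ^ 21 ∣ k * (k + 1) := by
    have : 4 * 2 ^ 21 ∣ 4 * (k * (k + 1)) := h5
    exact Nat.dvd_of_mul_dvd_mul_left (by norm_num) this
  have h8 : 2 ^ 21 ∣ k ∨ 2 ^ 21 ∣ k + 1 := by
    rcases Nat.even_or_odd k with hk | hk
    · left
      exact (Nat.Coprime.pow_left 21 (Nat.coprime_two_left.2 hk.add_one)).dvd_of_dvd_mul_right h7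
    · right
      exact (Nat.Coprime.pow_left 21 (Nat.coprime_two_left.2 hk)).dvd_of_dvd_mul_left h7
  have h9 : 2 ^ 21 ≤ k + 1 := by
    rcases h8 with h8 | h8
    · have := Nat.le_of_dvd (by omega) h8
      omega
    · exact Nat.le_of_dvd (by omega) h8
  omega

theorem spor_bound {x : Cfsg.Agent.OrdDiv.Grp × ℕ} (hx : x ∈ Cfsg.Agent.OrdDiv.spor) {q c : ℕ} (h3q : 3 ≤ q)
    (ho : q % 2 = 1) (hcN : c ∣ x.2) (hc : ∀ r : ℕ, r.Prime → r ∣ c → (r - 1) % 3 = 0)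
    (hqc : q ^ 2 < 3 * c + q) (hd : x.2 ∣ OL .G2 q) : q < 1271 := by
  have hs' : smooth x.2 = true := List.all_eq_true.1 smooth_spor x hx
  have hb' := List.all_eq_true.1 bndS_true x hx
  simp only [Bool.and_eq_true, Nat.ble_eq, Nat.blt_eq, Bool.or_eq_true, beq_iff_eq] at hb'
  obtain ⟨hb1, hb2, hb3⟩ := hb'
  have hM0 : x.2 ≠ 0 := by
    have : ∀ x ∈ Cfsg.Agent.OrdDiv.spor, x.2 ≠ 0 := by decide +kernel
    exact this x hx
  have h1 : c ∣ De (pd x.2) x.2 3 := dvd_De hM0 hb2 hcN fun r hr h => ⟨mem_pd hs' hr (h.trans hcN), hc r hr h⟩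
  have h2 := Nat.le_of_dvd (Nat.pos_of_ne_zero (De_ne_zero hM0)) h1
  by_contra hcon
  have h5 : 1271 * q ≤ q ^ 2 := by rw [pow_two]; exact Nat.mul_le_mul_right _ (by omega)
  rcases hb1 with hmo | hb1
  · have h6 : 2 ^ 46 ∣ OL .G2 q := by
      refine dvd_trans ?_ hd
      rw [hmo]
      exact Nat.dvd_of_mod_eq_zero (by decide +kernel)
    have h7 := two_part h3q ho h6
    have h8 : (2 ^ 22 - 1) * q ≤ q ^ 2 := by rw [pow_two]; exact Nat.mul_le_mul_right _ (by omega)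
    omega
  · omega

/-- **Sporadic groups, class 3.** -/
theorem spor3 {x : Cfsg.Agent.OrdDiv.Grp × ℕ} (hx : x ∈ Cfsg.Agent.OrdDiv.spor) {q : ℕ} (h3q : 3 ≤ q)
    (ho : q % 2 = 1) (hc : c3 q ∣ x.2) (hd : x.2 ∣ OL .G2 q) : q = 11 ∧ x.2 = 175560 := by
  have h1 := spor_bound hx h3q ho hc (fun r hr h => mod3_c3 (by omega) hr h) (by have := le_c3 q; omega) hd
  have h2 := List.all_eq_true.1 (List.all_eq_true.1 svS3_true x hx) q (List.mem_range.2 h1)
  have h5 : ¬ q < 3 := by omega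
  simp only [Nat.mod_eq_zero_of_dvd hc, Nat.mod_eq_zero_of_dvd hd, beq_self_eq_true, Bool.not_true, Bool.false_or,
    Bool.or_eq_true, Nat.blt_eq, h5, false_or, beq_iff_eq, Bool.and_eq_true] at h2
  omega

/-- **Sporadic groups, class 6.** -/
theorem spor6 {x : Cfsg.Agent.OrdDiv.Grp × ℕ} (hx : x ∈ Cfsg.Agent.OrdDiv.spor) {q : ℕ} (h3q : 3 ≤ q)
    (ho : q % 2 = 1) (hc : c6 q ∣ x.2) (hd : x.2 ∣ OL .G2 q) : False := by
  have h1 := spor_bound hx h3q ho hc (fun r hr h => mod3_c6 (by omega) hr h) le_c6 hd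
  have h2 := List.all_eq_true.1 (List.all_eq_true.1 svS6_true x hx) q (List.mem_range.2 h1)
  have h5 : ¬ q < 3 := by omega
  simp only [Nat.mod_eq_zero_of_dvd hc, Nat.mod_eq_zero_of_dvd hd, beq_self_eq_true, Bool.not_true, Bool.false_or,
    Bool.or_eq_true, Nat.blt_eq, h5, false_or, beq_iff_eq, Bool.or_self, Bool.false_eq_true, or_false] at h2
  omega

end Cfsg.Agent.H983.Cov
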