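import Cfsg.Agent.H983.ElG.KMain
import Cfsg.Agent.H983.Cov.Num
import Cfsg.Agent.H983.Cov.Defs

/-!
# S2499, the row `G₂(q)`, `q` odd: normal subgroups of the overgroups of `{y, u}` (helper983)

`ClsD` : the data of one class of primes (those of `q² + q + 1` or `q² - q + 1`);
`no_elem1` ... : no elementary abelian normal subgroups.
-/

set_option autoImplicit false

namespace Cfsg.Agent.H983.Cov

open Cfsg Cfsg.Lie Cfsg.Agent.OrdDiv Cfsg.Agent.H436 Cfsg.Agent.H902 Cfsg.Agent.H902.Names Cfsg.Agent.H915.GN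
  Cfsg.Agent.H290.ElReg Cfsg.Agent.H264.FKS Cfsg.Agent.H563.KG Cfsg.Agent.H56.Exc
open Cfsg.Agent.H946.Num Cfsg.Agent.H946.Rad Cfsg.Agent.H983.KG2
open Subgroup

/-- the data of a class of primes -/
structure ClsD (T : Type) [Group T] [Finite T] (p N c : ℕ) : Prop where
  hp : p.Prime
  h2 : p ≠ 2
  big : ∀ r, r.Prime → r ∣ c → Big T r N 6
  piso : ∀ r, r.Prime → r ∣ c → H325.Loc.PIso p r T
  cN : c ∣ N
  Nc : N ∣ 3 * c
  n3 : ¬ 3 ∣ c
  seven : ∀ r, r.Prime → r ∣ c → 7 ≤ r
  c1 : c ≠ 1
  pN : ¬ p ∣ N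
  fth : ∃ (F : Type) (_ : Field F) (_ : CharP F p), Fth 14 F T

section

variable {G : Type*} [Group G] [Finite G]

/-- a `p`-element acting on a normal subgroup -/
theorem modEq_fix_pow {A : Subgroup G} [A.Normal] {u : G} {p k : ℕ} (hp : p.Prime) (hu : orderOf u = p ^ k) :
    Nat.card A ≡ Nat.card ↥(A ⊓ centralizer {u}) [MOD p] := by
  have := Fact.mk hp
  let φ : Subgroup.zpowers u →* MulAut A := (MulAut.conjNormal (H := A)).comp (Subgroup.zpowers u).subtype
  let _ : MulAction (Subgroup.zpowers u) A := MulAction.compHom A φ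
  have hP : IsPGroup p (Subgroup.zpowers u) := IsPGroup.of_card (n := k) (by rw [Nat.card_zpowers, hu])
  have h1 := hP.card_modEq_card_fixedPoints A
  have hsm : ∀ (y : Subgroup.zpowers u) (a : A), ((y • a : A) : G) = (y : G) * a * (y : G)⁻¹ := by
    intro y a
    show ((MulAut.conjNormal (H := A) (y : G) a : A) : G) = _
    rw [MulAut.conjNormal_apply]
  have h2 : Nat.card (MulAction.fixedPoints (Subgroup.zpowers u) A) = Nat.card ↥(A ⊓ centralizer {u}) := by
    refine Nat.card_congr
      { toFun := fun a => ⟨((a : A) : G), (a : A).2, ?_⟩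
        invFun := fun b => ⟨⟨(b : G), b.2.1⟩, fun y => ?_⟩
        left_inv := fun a => rfl
        right_inv := fun b => rfl }
    · have h3 : (⟨u, Subgroup.mem_zpowers u⟩ : Subgroup.zpowers u) • (a : A) = (a : A) :=
        a.2 ⟨u, Subgroup.mem_zpowers u⟩
      have h4 := congrArg (Subtype.val : A → G) h3
      rw [hsm] at h4
      show ((a : A) : G) ∈ centralizer {u}
      rw [mem_centralizer_singleton_iff]
      rw [mul_inv_eq_iff_eq_mul] at h4
      exact h4.symm
    · apply Subtype.ext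
      rw [hsm]
      obtain ⟨k, hk⟩ := y.2
      have h5 : Commute (b : G) u := mem_centralizer_singleton_iff.1 b.2.2
      have hk' : u ^ k = (y : G) := hk
      show (y : G) * (b : G) * (y : G)⁻¹ = (b : G)
      rw [mul_inv_eq_iff_eq_mul, ← hk']
      exact ((h5.zpow_right k).eq).symm
  rw [h2] at h1
  exact h1

/-- a `p`-element with centraliser a `p`-group acting on a normal `t`-subgroup -/
theorem dvd_sub_one_of_cent {A : Subgroup G} [A.Normal] {u : G} {p k t m : ℕ} (hp : p.Prime) (hu : orderOf u = p ^ k)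
    (hc : IsPGroup p ↥(centralizer ({u} : Set G))) (ht : t.Prime) (htp : t ≠ p) (hA : Nat.card A = t ^ m) :
    t ^ m ≡ 1 [MOD p] := by
  have := Fact.mk hp
  have h1 := modEq_fix_pow (A := A) hp hu
  have h2 : Nat.card ↥(A ⊓ centralizer {u}) ∣ t ^ m := hA ▸ Subgroup.card_dvd_of_le inf_le_left
  have h3 : IsPGroup p ↥(A ⊓ centralizer {u}) := hc.to_le inf_le_right
  obtain ⟨j, hj⟩ := IsPGroup.iff_card.1 h3
  have h4 : j = 0 := by
    by_contra h0
    have h5 : p ∣ t ^ m := (dvd_pow_self p h0).trans (hj ▸ h2)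
    exact htp ((Nat.prime_dvd_prime_iff_eq hp ht).1 (hp.dvd_of_dvd_pow h5)).symm
  rw [hj, h4, pow_zero, hA] at h1
  exact h1

end

variable {p N c : ℕ} {T : Type} [Group T] [Finite T]

/-- the elementary abelian normal subgroups of exponent prime to `N` -/
theorem ClsD.no_elem_free (D : ClsD T p N c) (h14 : 14 < c) {M : Subgroup T} (hcM : c ∣ Nat.card M) {t : ℕ}
    (ht : t.Prime) (htp : t ≠ p) (htN : ¬ t ∣ N) (A : Subgroup M) (hAn : A.Normal)
    (hAc : ∀ a ∈ A, ∀ b ∈ A, a * b = b * a) (hat : ∀ a ∈ A, a ^ t = 1) : A = ⊥ := by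
  have i1 := Fact.mk D.hp
  have i2 := Fact.mk ht
  obtain ⟨F, _, _, hF⟩ := D.fth
  obtain ⟨τ, hτ⟩ := hF.sub M.subtype M.subtype_injective
  have hPt : IsPGroup t A := fun a => ⟨1, by rw [pow_one]; exact Subtype.ext (hat a a.2)⟩
  have hpA : ¬ p ∣ Nat.card A := by
    obtain ⟨k, hk⟩ := IsPGroup.iff_card.1 hPt
    intro h
    rw [hk] at h
    exact htp ((Nat.prime_dvd_prime_iff_eq D.hp ht).1 (D.hp.dvd_of_dvd_pow h)).symm
  refine eq_bot_of_dvd hτ hAc hpA hcM (fun x hx hxc a ha hc => ?_) (by rw [Fintype.card_fin]; exact h14)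
  exact big_free ((D.big _ hx hxc).subgroup M) ht htN rfl (hat a ha) hc

/-- the case of exponent 3 dividing `N` -/
theorem ClsD.no_elem_three (D : ClsD T p N c) (h14 : 14 < c) {M : Subgroup T} {y u : M} (hy : orderOf y = N)
    {k : ℕ} (hu : orderOf u = p ^ k) (hcu : IsPGroup p ↥(centralizer ({u} : Set M))) (h3N : 3 ∣ N)
    (A : Subgroup M) (hAn : A.Normal)
    (hAc : ∀ a ∈ A, ∀ b ∈ A, a * b = b * a) (hat : ∀ a ∈ A, a ^ 3 = 1) : A = ⊥ := by
  have i1 := Fact.mk D.hp
  have i2 : Fact (Nat.Prime 3) := ⟨Nat.prime_three⟩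
  have h3p : 3 ≠ p := fun h => D.pN (h ▸ h3N)
  have hN0 : N ≠ 0 := by rw [← hy]; exact (orderOf_pos y).ne'
  have hc0 : c ≠ 0 := by rintro rfl; exact hN0 (Nat.eq_zero_of_zero_dvd D.cN)
  obtain ⟨F, _, _, hF⟩ := D.fth
  -- the element of order `c`
  set z := y ^ (N / c) with hz
  have hzo : orderOf z = c := by
    rw [hz, orderOf_pow_of_dvd (Nat.div_pos (Nat.le_of_dvd (Nat.pos_of_ne_zero hN0) D.cN) (Nat.pos_of_ne_zero hc0)).ne'
      (by rw [hy]; exact Nat.div_dvd_of_dvd D.cN), hy, Nat.div_div_self D.cN hN0]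
  -- elements of `A` commuting with an element of prime order of `⟨z⟩` commute with `z`
  have key : ∀ a ∈ A, ∀ x ∈ zpowers z, (orderOf x).Prime → x * a = a * x → z * a = a * z := by
    intro a ha x hx hxp hxa
    obtain ⟨j, hj⟩ := hx
    have hj : z ^ j = x := hj
    have hxc : orderOf x ∣ c := by
      rw [← hzo, ← hj]
      exact orderOf_dvd_of_pow_eq_one (by rw [← zpow_natCast, ← zpow_mul, mul_comm, zpow_mul, zpow_natCast,
        pow_orderOf_eq_one, one_zpow])
    have hb := (D.big _ hxp hxc).subgroup M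
    have hcyc := hb.cyc x rfl
    have h1 : a ∈ centralizer ({x} : Set M) := mem_centralizer_singleton_iff.2 hxa.symm
    have h2 : z ∈ centralizer ({x} : Set M) := by
      rw [mem_centralizer_singleton_iff, ← hj]
      exact ((Commute.refl z).zpow_right j).eq
    let _ := IsCyclic.commGroup (α := ↥(centralizer ({x} : Set M)))
    have h3 : (⟨z, h2⟩ : ↥(centralizer ({x} : Set M))) * ⟨a, h1⟩ = ⟨a, h1⟩ * ⟨z, h2⟩ := mul_comm _ _
    exact congrArg Subtype.val h3
  -- the norm map
  let _ : CommGroup A := { (inferInstance : Group A) with mul_comm := fun a b => Subtype.ext (hAc a a.2 b b.2) }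
  let ψ : MulAut A := MulAut.conjNormal (H := A) z
  let nrm : A → A := fun a => ∏ i ∈ Finset.range c, (ψ ^ i) a
  have hψc : ψ ^ c = 1 := by
    show (MulAut.conjNormal (H := A) z) ^ c = 1
    rw [← map_pow, ← hzo, pow_orderOf_eq_one, map_one]
  have hnm : ∀ a b, nrm (a * b) = nrm a * nrm b := by
    intro a b
    show (∏ i ∈ Finset.range c, (ψ ^ i) (a * b)) = _
    rw [← Finset.prod_mul_distrib]
    exact Finset.prod_congr rfl fun i _ => map_mul _ _ _
  have hn1 : nrm 1 = 1 := Finset.prod_eq_one fun i _ => map_one _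
  have hfix : ∀ a, ψ (nrm a) = nrm a := by
    intro a
    have h1 : ψ (nrm a) = ∏ i ∈ Finset.range c, (ψ ^ (i + 1)) a := by
      show ψ (∏ i ∈ Finset.range c, (ψ ^ i) a) = _
      rw [map_prod]
      exact Finset.prod_congr rfl fun i _ => by rw [pow_succ', MulAut.mul_apply]
    rw [h1]
    have h2 := Finset.prod_range_succ (fun i => (ψ ^ i) a) c
    have h3 := Finset.prod_range_succ' (fun i => (ψ ^ i) a) c
    rw [h2, hψc, pow_zero] at h3
    exact (mul_right_cancel h3).symm
  have hpow : ∀ a, ψ a = a → nrm a = a ^ c := by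
    intro a ha
    have h1 : ∀ i : ℕ, (ψ ^ i) a = a := by
      intro i
      induction i with
      | zero => rfl
      | succ n ih => rw [pow_succ', MulAut.mul_apply, ih, ha]
    show (∏ i ∈ Finset.range c, (ψ ^ i) a) = a ^ c
    rw [Finset.prod_congr rfl fun i _ => h1 i, Finset.prod_const, Finset.card_range]
  have hψ : ∀ a : A, ψ a = a ↔ z * (a : M) = a * z := by
    intro a
    rw [← mul_inv_eq_iff_eq_mul]
    constructor
    · intro h
      have := congrArg (Subtype.val : A → M) h
      rwa [show ((ψ a : A) : M) = z * a * z⁻¹ from MulAut.conjNormal_apply z a] at this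
    · intro h
      apply Subtype.ext
      rw [show ((ψ a : A) : M) = z * a * z⁻¹ from MulAut.conjNormal_apply z a, h]
  have hcop : Nat.Coprime 3 c := (Nat.Prime.coprime_iff_not_dvd Nat.prime_three).2 D.n3
  have hone : ∀ a : A, a ^ c = 1 → a = 1 := by
    intro a ha
    have h1 : a ^ 3 = 1 := Subtype.ext (hat a a.2)
    have h2 : orderOf a ∣ 1 := by
      rw [← hcop]
      exact Nat.dvd_gcd (orderOf_dvd_of_pow_eq_one h1) (orderOf_dvd_of_pow_eq_one ha)
    exact orderOf_eq_one_iff.1 (Nat.dvd_one.1 h2)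
  -- the kernel of the norm in `M`
  let A1 : Subgroup M :=
    { carrier := {a | ∃ h : a ∈ A, nrm ⟨a, h⟩ = 1}
      one_mem' := ⟨one_mem _, hn1⟩
      mul_mem' := fun {a b} ⟨ha, ha'⟩ ⟨hb, hb'⟩ => ⟨mul_mem ha hb, by
        rw [show (⟨a * b, mul_mem ha hb⟩ : A) = ⟨a, ha⟩ * ⟨b, hb⟩ from rfl, hnm, ha', hb', one_mul]⟩
      inv_mem' := fun {a} ⟨ha, ha'⟩ => ⟨inv_mem ha, by
        have h1 := hnm ⟨a, ha⟩ ⟨a⁻¹, inv_mem ha⟩
        have h2 : (⟨a, ha⟩ * ⟨a⁻¹, inv_mem ha⟩ : A) = 1 := Subtype.ext (mul_inv_cancel a)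
        rw [h2, hn1, ha', one_mul] at h1
        exact h1.symm⟩ }
  have hA1 : A1 = ⊥ := by
    have hA1A : A1 ≤ A := fun a ⟨h, _⟩ => h
    -- the group `A ⟨z⟩`
    let H : Subgroup M := A ⊔ zpowers z
    have hnH : ∀ g ∈ H, ∀ a ∈ A1, g * a * g⁻¹ ∈ A1 := by
      intro g hg
      have hsub : H ≤ normalizer (A1 : Set M) := by
        refine sup_le (fun b hb => ?_) ?_
        · rw [mem_normalizer_iff]
          intro a
          have hcomm : ∀ a ∈ A, b * a * b⁻¹ = a := fun a ha => by
            rw [mul_inv_eq_iff_eq_mul, hAc b hb a ha]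
          constructor
          · intro ha
            rw [hcomm a (hA1A ha)]
            exact ha
          · intro ha
            have h1 : a ∈ A := by
              have := hAn.conj_mem _ (hA1A ha) b⁻¹
              have e1 : b⁻¹ * (b * a * b⁻¹) * b⁻¹⁻¹ = a := by group
              rwa [e1] at this
            rwa [hcomm a h1] at ha
        · rw [zpowers_le, mem_normalizer_iff]
          have hz1 : ∀ a : A, nrm (ψ a) = nrm a := by
            intro a
            have h1 : nrm (ψ a) = ψ (nrm a) := by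
              show (∏ i ∈ Finset.range c, (ψ ^ i) (ψ a)) = ψ (∏ i ∈ Finset.range c, (ψ ^ i) a)
              rw [map_prod]
              refine Finset.prod_congr rfl fun i _ => ?_
              rw [← MulAut.mul_apply, ← MulAut.mul_apply, ← pow_succ, pow_succ']
            rw [h1, hfix]
          intro a
          constructor
          · rintro ⟨ha, ha'⟩
            have h1 : z * a * z⁻¹ = ((ψ ⟨a, ha⟩ : A) : M) := (MulAut.conjNormal_apply z ⟨a, ha⟩).symm
            refine ⟨by rw [h1]; exact (ψ ⟨a, ha⟩).2, ?_⟩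
            have h2 : (⟨z * a * z⁻¹, by rw [h1]; exact (ψ ⟨a, ha⟩).2⟩ : A) = ψ ⟨a, ha⟩ := Subtype.ext h1
            rw [h2, hz1, ha']
          · rintro ⟨hb, hb'⟩
            have h0 : a ∈ A := by
              have := hAn.conj_mem _ hb z⁻¹
              have e1 : z⁻¹ * (z * a * z⁻¹) * z⁻¹⁻¹ = a := by group
              rwa [e1] at this
            refine ⟨h0, ?_⟩
            have h1 : z * a * z⁻¹ = ((ψ ⟨a, h0⟩ : A) : M) := (MulAut.conjNormal_apply z ⟨a, h0⟩).symm
            have h2 : (⟨z * a * z⁻¹, hb⟩ : A) = ψ ⟨a, h0⟩ := Subtype.ext h1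
            rw [h2, hz1] at hb'
            exact hb'
      intro a ha
      exact (mem_normalizer_iff.1 (hsub hg) a).1 ha
    let B1 : Subgroup H := A1.subgroupOf H
    have hB1n : B1.Normal := ⟨fun a ha g => by
      rw [mem_subgroupOf] at ha ⊢
      exact hnH g g.2 a ha⟩
    obtain ⟨τ, hτ⟩ := hF.sub (M.subtype.comp H.subtype) (M.subtype_injective.comp H.subtype_injective)
    have hBc : ∀ a ∈ B1, ∀ b ∈ B1, a * b = b * a := by
      intro a ha b hb
      apply Subtype.ext
      exact hAc a (hA1A (mem_subgroupOf.1 ha)) b (hA1A (mem_subgroupOf.1 hb))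
    have hPt : IsPGroup 3 B1 := fun a => ⟨1, by
      rw [pow_one]
      apply Subtype.ext
      apply Subtype.ext
      exact hat _ (hA1A (mem_subgroupOf.1 a.2))⟩
    have hpB : ¬ p ∣ Nat.card B1 := by
      obtain ⟨j, hj⟩ := IsPGroup.iff_card.1 hPt
      intro h
      rw [hj] at h
      exact h3p ((Nat.prime_dvd_prime_iff_eq D.hp Nat.prime_three).1 (D.hp.dvd_of_dvd_pow h)).symm
    have hcH : c ∣ Nat.card H := by
      have h1 : z ∈ H := (le_sup_right : zpowers z ≤ H) (mem_zpowers z)
      rw [← hzo, ← Subgroup.orderOf_mk z h1]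
      exact orderOf_dvd_natCard _
    have hB1 : B1 = ⊥ := by
      refine eq_bot_of_dvd hτ hBc hpB hcH (fun x hx hxc a ha hxa => ?_) (by rw [Fintype.card_fin]; exact h14)
      obtain ⟨haA, hnrm⟩ : (a : M) ∈ A1 := mem_subgroupOf.1 ha
      -- `x = b z ^ j`
      have hxH : (x : M) ∈ A ⊔ zpowers z := x.2
      rw [Subgroup.mem_sup_of_normal_left] at hxH
      obtain ⟨b, hb, w, hw, hbw⟩ := hxH
      have hwa : w * (a : M) = a * w := by
        have h1 : (x : M) * a = a * x := congrArg Subtype.val hxa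
        rw [← hbw] at h1
        have h2 : b * ((w * a * w⁻¹)) = a * b := by
          have h3 : b * (w * a * w⁻¹) = (b * w * a) * w⁻¹ := by group
          rw [h3, h1]; group
        have h4 : w * a * w⁻¹ ∈ A := hAn.conj_mem _ haA w
        rw [hAc b hb _ h4] at h2
        have h5 := mul_right_cancel h2
        rwa [mul_inv_eq_iff_eq_mul] at h5
      -- order of `w`
      have hwo : orderOf w = orderOf x := by
        have hr := hx
        have hwc : orderOf w ∣ c := by
          obtain ⟨j, hj⟩ := hw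
          have hj : z ^ j = w := hj
          rw [← hzo, ← hj]
          exact orderOf_dvd_of_pow_eq_one (by rw [← zpow_natCast, ← zpow_mul, mul_comm, zpow_mul, zpow_natCast,
            pow_orderOf_eq_one, one_zpow])
        have h1 : w ^ orderOf x ∈ A := by
          have h2 : (x : M) ^ orderOf x = 1 := by
            rw [← Subgroup.coe_pow, pow_orderOf_eq_one, Subgroup.coe_one]
          rw [← QuotientGroup.eq_one_iff]
          have h3 : ((w ^ orderOf x : M) : M ⧸ A) = (((x : M) ^ orderOf x : M) : M ⧸ A) := by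
            rw [QuotientGroup.mk_pow, QuotientGroup.mk_pow]
            congr 1
            rw [← hbw, QuotientGroup.mk_mul, (QuotientGroup.eq_one_iff b).2 hb, one_mul]
          rw [h3, h2, QuotientGroup.mk_one]
        have h2 : w ^ orderOf x = 1 := by
          have h3 : (w ^ orderOf x) ^ 3 = 1 := hat _ h1
          have h4 : (w ^ orderOf x) ^ c = 1 := by
            rw [← pow_mul, mul_comm, pow_mul, orderOf_dvd_iff_pow_eq_one.1 hwc, one_pow]
          have h5 : orderOf (w ^ orderOf x) ∣ 1 := by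
            rw [← hcop]
            exact Nat.dvd_gcd (orderOf_dvd_of_pow_eq_one h3) (orderOf_dvd_of_pow_eq_one h4)
          exact orderOf_eq_one_iff.1 (Nat.dvd_one.1 h5)
        rcases (Nat.dvd_prime hr).1 (orderOf_dvd_of_pow_eq_one h2) with h3 | h3
        · exfalso
          rw [orderOf_eq_one_iff] at h3
          rw [h3, mul_one] at hbw
          have h4 : (x : M) ^ 3 = 1 := by rw [← hbw]; exact hat b hb
          have h5 : orderOf x ∣ 3 := orderOf_dvd_of_pow_eq_one (Subtype.ext (by simpa using h4))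
          have h6 := (Nat.prime_dvd_prime_iff_eq hr Nat.prime_three).1 h5
          exact D.n3 (h6 ▸ hxc)
        · exact h3
      have hza := key a haA w hw (by rw [hwo]; exact hx) hwa
      have h6 : (⟨(a : M), haA⟩ : A) = 1 := by
        apply hone
        rw [← hpow _ ((hψ _).2 hza)]
        exact hnrm
      have h7 : (a : M) = 1 := congrArg Subtype.val h6
      exact Subtype.ext h7
    rw [eq_bot_iff]
    intro a ha
    have h1 : a ∈ H := (le_sup_left : A ≤ H) (hA1A ha)
    have h2 : (⟨a, h1⟩ : H) ∈ B1 := mem_subgroupOf.2 ha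
    rw [hB1, Subgroup.mem_bot] at h2
    exact Subgroup.mem_bot.2 (congrArg Subtype.val h2)
  -- so the norm is injective and `z` centralises `A`
  have hinj : Function.Injective nrm := by
    intro a b hab
    have h1 : nrm (a * b⁻¹) = 1 := by
      have h2 := hnm (a * b⁻¹) b
      rw [inv_mul_cancel_right, hab] at h2
      exact (mul_eq_right.1 h2.symm)
    have h3 : ((a * b⁻¹ : A) : M) ∈ A1 := ⟨(a * b⁻¹).2, h1⟩
    rw [hA1, Subgroup.mem_bot] at h3
    have h4 : a * b⁻¹ = 1 := Subtype.ext h3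
    exact mul_inv_eq_one.1 h4
  have hsurj := Finite.surjective_of_injective hinj
  have hzA : ∀ a ∈ A, z * a = a * z := by
    intro a ha
    obtain ⟨b, hb⟩ := hsurj ⟨a, ha⟩
    have h1 := hfix b
    rw [hb] at h1
    exact (hψ ⟨a, ha⟩).1 h1
  -- `A` is cyclic
  obtain ⟨r, hr, hrc⟩ := Nat.exists_prime_and_dvd D.c1
  have hb := (D.big r hr hrc).subgroup M
  set x := z ^ (c / r) with hxdef
  have hxo : orderOf x = r := by
    rw [hxdef, orderOf_pow_of_dvd (Nat.div_pos (Nat.le_of_dvd (Nat.pos_of_ne_zero hc0) hrc) hr.pos).ne'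
      (by rw [hzo]; exact Nat.div_dvd_of_dvd hrc), hzo, Nat.div_div_self hrc hc0]
  have hcyc := hb.cyc x hxo
  have hAC : A ≤ centralizer ({x} : Set M) := by
    intro a ha
    rw [mem_centralizer_singleton_iff]
    have h1 : Commute z a := hzA a ha
    exact ((h1.pow_left (c / r)).eq).symm
  have hAcyc : IsCyclic A :=
    isCyclic_of_injective (Subgroup.inclusion hAC) (Subgroup.inclusion_injective hAC)
  have hcard : Nat.card A ∣ 3 := by
    obtain ⟨g, hg⟩ := hAcyc.exists_generator
    rw [← orderOf_eq_card_of_forall_mem_zpowers hg]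
    exact orderOf_dvd_of_pow_eq_one (Subtype.ext (hat g g.2))
  rcases (Nat.dvd_prime Nat.prime_three).1 hcard with h1 | h1
  · exact Subgroup.card_eq_one.1 h1
  · exfalso
    have h2 := dvd_sub_one_of_cent (A := A) (m := 1) D.hp hu hcu Nat.prime_three h3p (by rw [h1, pow_one])
    rw [pow_one] at h2
    have h3 := (Nat.modEq_iff_dvd' (by norm_num)).1 h2.symm
    have h4 := Nat.le_of_dvd (by norm_num) h3
    have := D.hp.two_le
    have := D.h2
    omega

end Cfsg.Agent.H983.Cov
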