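import Cfsg.Agent.H983.Cov.Rad

/-!
# S2499, the row `G₂(q)`, `q` odd: the simple section of an overgroup of `{y, u}` (helper983)
-/

set_option autoImplicit false

namespace Cfsg.Agent.H983.Cov

open Cfsg Cfsg.Lie Cfsg.Agent.OrdDiv Cfsg.Agent.H436 Cfsg.Agent.H902 Cfsg.Agent.H902.Names Cfsg.Agent.H915.GN
  Cfsg.Agent.H290.ElReg Cfsg.Agent.H264.FKS Cfsg.Agent.H563.KG Cfsg.Agent.H56.Exc
open Cfsg.Agent.H946.Num Cfsg.Agent.H946.Rad Cfsg.Agent.H983.KG2
open Subgroup

variable {p N c : ℕ} {T : Type} [Group T] [Finite T]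

/-- the condition on elementary abelian normal subgroups -/
def NoEl (p c : ℕ) (M : Type) [Group M] : Prop :=
  ∀ t : ℕ, t.Prime → t ≠ p → ¬ t ∣ c → ∀ A : Subgroup M, A.Normal → (∀ a ∈ A, ∀ b ∈ A, a * b = b * a) →
    (∀ a ∈ A, a ^ t = 1) → A = ⊥

theorem ClsD.noEl (D : ClsD T p N c) (h14 : 14 < c) {M : Subgroup T} {y u : M} (hy : orderOf y = N)
    {k : ℕ} (hu : orderOf u = p ^ k) (hcu : IsPGroup p ↥(centralizer ({u} : Set M))) : NoEl p c M := by
  intro t ht htp htc A hA hAc hAt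
  by_cases htN : t ∣ N
  · have h3 : t = 3 := by
      rcases ht.dvd_mul.1 (htN.trans D.Nc) with h | h
      · exact (Nat.prime_dvd_prime_iff_eq ht Nat.prime_three).1 h
      · exact absurd h htc
    subst h3
    exact D.no_elem_three h14 hy hu hcu htN A hA hAc hAt
  · exact D.no_elem_free h14 (D.cN.trans (hy ▸ orderOf_dvd_natCard y)) ht htp htN A hA hAc hAt

/-- the small cases -/
theorem noEl_five (D : ClsD T 5 21 7) (hT : Nat.card T = 5859000000) {M : Subgroup T} {y u : M} (hy : orderOf y = 21)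
    {k : ℕ} (hu : orderOf u = 5 ^ k) (hcu : IsPGroup 5 ↥(centralizer ({u} : Set M))) : NoEl 5 7 M := by
  intro t ht htp htc A hA hAc hAt
  have i2 := Fact.mk ht
  have hPt : IsPGroup t A := fun a => ⟨1, by rw [pow_one]; exact Subtype.ext (hAt a a.2)⟩
  obtain ⟨j, hj⟩ := IsPGroup.iff_card.1 hPt
  have hd : t ^ j ∣ 2 ^ 6 * (3 ^ 3 * (5 ^ 6 * (7 * 31))) := by
    rw [← hj]
    refine ((Subgroup.card_subgroup_dvd_card A).trans (Subgroup.card_subgroup_dvd_card M)).trans (dvd_of_eq ?_)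
    rw [hT]
    norm_num
  have h1 := dvd_sub_one_of_cent (A := A) (m := j) (by norm_num) hu hcu ht htp hj
  -- the element of order 7
  have hx : orderOf (y ^ 3) = 7 := by rw [orderOf_pow' y (by norm_num), hy]; rfl
  have hb := (D.big 7 (by norm_num) dvd_rfl).subgroup M
  have h2 := modEq_fix (A := A) (by norm_num) hx
  rw [hj] at h2
  have h3 : Nat.card ↥(A ⊓ centralizer {y ^ 3}) ∣ t ^ j := hj ▸ Subgroup.card_dvd_of_le inf_le_left
  have h4 : Nat.card ↥(A ⊓ centralizer {y ^ 3}) ∣ 21 := (Subgroup.card_dvd_of_le inf_le_right).trans (hb.card _ hx)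
  have hj0 : j = 0 := by
    by_contra h0
    have htd : t ∣ 2 ^ 6 * (3 ^ 3 * (5 ^ 6 * (7 * 31))) := (dvd_pow_self t h0).trans hd
    have hcase : t = 2 ∨ t = 3 ∨ t = 31 := by
      rcases ht.dvd_mul.1 htd with h | h
      · left; exact (Nat.prime_dvd_prime_iff_eq ht Nat.prime_two).1 (ht.dvd_of_dvd_pow h)
      · rcases ht.dvd_mul.1 h with h | h
        · right; left; exact (Nat.prime_dvd_prime_iff_eq ht Nat.prime_three).1 (ht.dvd_of_dvd_pow h)
        · rcases ht.dvd_mul.1 h with h | h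
          · exact absurd ((Nat.prime_dvd_prime_iff_eq ht (by norm_num)).1 (ht.dvd_of_dvd_pow h)) htp
          · rcases ht.dvd_mul.1 h with h | h
            · exact absurd h htc
            · right; right; exact (Nat.prime_dvd_prime_iff_eq ht (by norm_num)).1 h
    rcases hcase with rfl | rfl | rfl
    · have h5 : j ≤ 6 := by
        by_contra hcon
        have h6 : 2 ^ 7 ∣ 2 ^ 6 * (3 ^ 3 * (5 ^ 6 * (7 * 31))) := (pow_dvd_pow 2 (by omega)).trans hd
        norm_num at h6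
      have h6 : j = 4 := by
        interval_cases j <;> first | rfl | (exfalso; revert h1; decide) | omega
      subst h6
      have h7 : Nat.card ↥(A ⊓ centralizer {y ^ 3}) = 1 := by
        have : Nat.card ↥(A ⊓ centralizer {y ^ 3}) ∣ Nat.gcd (2 ^ 4) 21 := Nat.dvd_gcd h3 h4
        exact Nat.dvd_one.1 this
      rw [h7] at h2
      revert h2; decide
    · have h5 : j ≤ 3 := by
        by_contra hcon
        have h6 : 3 ^ 4 ∣ 2 ^ 6 * (3 ^ 3 * (5 ^ 6 * (7 * 31))) := (pow_dvd_pow 3 (by omega)).trans hd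
        norm_num at h6
      interval_cases j <;> first | (exfalso; revert h1; decide) | omega
    · have h5 : j ≤ 1 := by
        by_contra hcon
        have h6 : 31 ^ 2 ∣ 2 ^ 6 * (3 ^ 3 * (5 ^ 6 * (7 * 31))) := (pow_dvd_pow 31 (by omega)).trans hd
        norm_num at h6
      have h6 : j = 1 := by omega
      subst h6
      have h7 : Nat.card ↥(A ⊓ centralizer {y ^ 3}) = 1 := by
        have : Nat.card ↥(A ⊓ centralizer {y ^ 3}) ∣ Nat.gcd (31 ^ 1) 21 := Nat.dvd_gcd h3 h4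
        exact Nat.dvd_one.1 this
      rw [h7] at h2
      revert h2; decide
  rw [hj0, pow_zero] at hj
  exact Subgroup.card_eq_one.1 hj

theorem noEl_three (D : ClsD T 3 13 13) (hT : Nat.card T = 4245696) {M : Subgroup T} {y : M} (hy : orderOf y = 13) :
    NoEl 3 13 M := by
  intro t ht htp htc A hA hAc hAt
  have i2 := Fact.mk ht
  have hPt : IsPGroup t A := fun a => ⟨1, by rw [pow_one]; exact Subtype.ext (hAt a a.2)⟩
  obtain ⟨j, hj⟩ := IsPGroup.iff_card.1 hPt
  have hd : t ^ j ∣ 2 ^ 6 * (3 ^ 6 * (7 * 13)) := by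
    rw [← hj]
    refine ((Subgroup.card_subgroup_dvd_card A).trans (Subgroup.card_subgroup_dvd_card M)).trans (dvd_of_eq ?_)
    rw [hT]
    norm_num
  have hb := (D.big 13 (by norm_num) dvd_rfl).subgroup M
  have h2 := modEq_fix (A := A) (by norm_num) hy
  rw [hj] at h2
  have h3 : Nat.card ↥(A ⊓ centralizer {y}) ∣ t ^ j := hj ▸ Subgroup.card_dvd_of_le inf_le_left
  have h4 : Nat.card ↥(A ⊓ centralizer {y}) ∣ 13 := (Subgroup.card_dvd_of_le inf_le_right).trans (hb.card _ hy)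
  have hj0 : j = 0 := by
    by_contra h0
    have htd : t ∣ 2 ^ 6 * (3 ^ 6 * (7 * 13)) := (dvd_pow_self t h0).trans hd
    have h7 : Nat.card ↥(A ⊓ centralizer {y}) = 1 := by
      rcases (Nat.dvd_prime (by norm_num)).1 h4 with h | h
      · exact h
      · exfalso
        rw [h] at h3
        exact htc (by rw [(Nat.prime_dvd_prime_iff_eq (by norm_num) ht).1 ((by norm_num : Nat.Prime 13).dvd_of_dvd_pow h3)])
    rw [h7] at h2
    have hcase : t = 2 ∨ t = 7 := by
      rcases ht.dvd_mul.1 htd with h | h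
      · left; exact (Nat.prime_dvd_prime_iff_eq ht Nat.prime_two).1 (ht.dvd_of_dvd_pow h)
      · rcases ht.dvd_mul.1 h with h | h
        · exact absurd ((Nat.prime_dvd_prime_iff_eq ht Nat.prime_three).1 (ht.dvd_of_dvd_pow h)) htp
        · rcases ht.dvd_mul.1 h with h | h
          · right; exact (Nat.prime_dvd_prime_iff_eq ht (by norm_num)).1 h
          · exact absurd h htc
    rcases hcase with rfl | rfl
    · have h5 : j ≤ 6 := by
        by_contra hcon
        have h6 : 2 ^ 7 ∣ 2 ^ 6 * (3 ^ 6 * (7 * 13)) := (pow_dvd_pow 2 (by omega)).trans hd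
        norm_num at h6
      interval_cases j <;> first | (exfalso; revert h2; decide) | omega
    · have h5 : j ≤ 1 := by
        by_contra hcon
        have h6 : 7 ^ 2 ∣ 2 ^ 6 * (3 ^ 6 * (7 * 13)) := (pow_dvd_pow 7 (by omega)).trans hd
        norm_num at h6
      interval_cases j <;> first | (exfalso; revert h2; decide) | omega
  rw [hj0, pow_zero] at hj
  exact Subgroup.card_eq_one.1 hj

/-- **The simple section.** -/
theorem ClsD.struct (D : ClsD T p N c) {M : Subgroup T} (hcM : c ∣ Nat.card M) (hE : NoEl p c M)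
    (hsep : ¬ Nat.card M ∣ 6 * N) :
    ∃ S : Subgroup M, S.Normal ∧ IsSimpleGroup S ∧ ¬ IsMulCommutative S ∧ centralizer (S : Set M) = ⊥ ∧
      c ∣ Nat.card S ∧ S.index ∣ 6 * N ∧ ∀ r, r.Prime → r ∣ c → ¬ r ∣ S.index := by
  let B : ℕ → ℕ → ℕ → Prop := fun r m e => (r.Prime ∧ r ∣ c) ∧ m = N ∧ e = 6
  have hPr : ∀ {r}, Pr B r ↔ r.Prime ∧ r ∣ c := by
    intro r
    constructor
    · rintro ⟨m, e, h, -⟩
      exact h
    · intro h
      exact ⟨_, _, h, rfl, rfl⟩
  obtain ⟨r0, hr0, hr0c⟩ := Nat.exists_prime_and_dvd D.c1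
  have hred : Red M (Pr B) := by
    refine red_of' (p := p) cycFixSolv ?_ (hPr.2 ⟨hr0, hr0c⟩) hr0 (hr0c.trans hcM)
      ((D.big r0 hr0 hr0c).subgroup M).cyc ?_
    · exact pcore_of_piso ((D.piso r0 hr0 hr0c).sub M) (hr0c.trans hcM)
    · intro t ht htp hnt A hA hAc hAt
      exact hE t ht htp (fun h => hnt (hPr.2 ⟨ht, h⟩)) A hA hAc hAt
  have hfam : RFam M B := by
    refine ⟨?_, ?_, ?_⟩
    · rintro r m e ⟨⟨h1, h2⟩, rfl, rfl⟩
      exact (D.big r h1 h2).subgroup M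
    · rintro r m e ⟨⟨h1, h2⟩, rfl, rfl⟩
      exact h2.trans hcM
    · rintro r m e ⟨⟨h1, h2⟩, rfl, rfl⟩
      exact hsep
  obtain ⟨S, hSn, hs, hna, hall⟩ := hfam.exists_full cycFixSolv hred (r₁ := r0) ⟨⟨hr0, hr0c⟩, rfl, rfl⟩
  refine ⟨S, hSn, hs, hna, ?_, ?_, ?_, ?_⟩
  · by_contra hne
    obtain ⟨r, ⟨m, e, hr⟩, hrC⟩ := hred.exists_dvd (N := centralizer (S : Set M)) inferInstance hne
    have hb := hfam.big r m e hr
    have := Fact.mk hb.prime
    obtain ⟨x, hx⟩ := exists_prime_orderOf_dvd_card' r hrC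
    have hx' : orderOf (x : M) = r := by rw [Subgroup.orderOf_coe, hx]
    have hcyc := hb.cyc _ hx'
    apply hna
    refine ⟨⟨fun a b => ?_⟩⟩
    have hin : ∀ a : S, (a : M) ∈ centralizer ({(x : M)} : Set M) := fun a => by
      rw [mem_centralizer_singleton_iff]
      exact (mem_centralizer_iff.1 x.2 a a.2)
    let _ := IsCyclic.commGroup (α := ↥(centralizer ({(x : M)} : Set M)))
    have h1 : (⟨a, hin a⟩ : ↥(centralizer ({(x : M)} : Set M))) * ⟨b, hin b⟩ = ⟨b, hin b⟩ * ⟨a, hin a⟩ :=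
      mul_comm _ _
    have h2 : (a : M) * (b : M) = (b : M) * (a : M) := congrArg Subtype.val h1
    exact Subtype.ext h2
  · have h1 : c ∣ Nat.card S * S.index := by rw [S.card_mul_index]; exact hcM
    refine Nat.Coprime.dvd_of_dvd_mul_right (Nat.coprime_of_dvd fun r hr h2 h3 => ?_) h1
    exact (hall r N 6 ⟨⟨hr, h2⟩, rfl, rfl⟩).2.2.1 h3
  · exact (hall r0 N 6 ⟨⟨hr0, hr0c⟩, rfl, rfl⟩).2.2.2
  · intro r hr hrc
    exact (hall r N 6 ⟨⟨hr, hrc⟩, rfl, rfl⟩).2.2.1

/-- elements of order prime to the index -/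
theorem mem_of_coprime_index {G : Type*} [Group G] [Finite G] {S : Subgroup G} [S.Normal] {x : G}
    (h : Nat.Coprime (orderOf x) S.index) : x ∈ S := by
  rw [← QuotientGroup.eq_one_iff]
  have h1 : orderOf (x : G ⧸ S) ∣ orderOf x := orderOf_map_dvd (QuotientGroup.mk' S) x
  have h2 : orderOf (x : G ⧸ S) ∣ S.index := by
    rw [Subgroup.index_eq_card]
    exact orderOf_dvd_natCard _
  have h3 : orderOf (x : G ⧸ S) ∣ 1 := by
    rw [← h]
    exact Nat.dvd_gcd h1 h2
  exact orderOf_eq_one_iff.1 (Nat.dvd_one.1 h3)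

/-- the index divides 18; it divides 6 if `N = c` -/
theorem index_dvd_six {N c i : ℕ} (cN : c ∣ N) (Nc : N ∣ 3 * c) (hi : i ∣ 6 * N) (hc : ∀ r, r.Prime → r ∣ c → ¬ r ∣ i)
    (hc0 : c ≠ 0) : i ∣ 6 * (N / c) ∧ i ∣ 18 := by
  have hcop : Nat.Coprime i c := Nat.coprime_of_dvd fun k hk h1 h2 => hc k hk h2 h1
  have h1 : i ∣ 6 * (N / c) := by
    apply hcop.dvd_of_dvd_mul_right
    rwa [mul_assoc, Nat.div_mul_cancel cN]
  refine ⟨h1, h1.trans ?_⟩
  have h2 : N / c ∣ 3 := by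
    have h3 : c * (N / c) ∣ c * 3 := by rw [Nat.mul_div_cancel' cN, mul_comm c 3]; exact Nc
    exact Nat.dvd_of_mul_dvd_mul_left (Nat.pos_of_ne_zero hc0) h3
  exact (Nat.mul_dvd_mul_left 6 h2)

end Cfsg.Agent.H983.Cov
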